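import Groth.Agent.LefRel.Bound
import Groth.Agent.LefDiv.Restrict
import Groth.Agent.ExtShX.TwistCover
import Groth.Agent.ResDesc.AmpleFam

/-!
# The Lefschetz condition over an affine base
-/

set_option autoImplicit false
set_option linter.style.haveILetI false
set_option linter.unusedSectionVars false
set_option backward.isDefEq.respectTransparency false
set_option backward.isDefEq.respectTransparency.types false

universe u

open CategoryTheory CategoryTheory.Limits AlgebraicGeometry TopologicalSpace Opposite Abelian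
open Groth.Agent.Nakai (cl_tensor cl_pow cl_one iso_of_cl)
open Groth.Agent.LefDiv (idealMod_pow toSubscheme_quotMap pow_le_pow isFormal_quotMap)

noncomputable section

namespace Groth.Agent.LefRel

attribute [local instance] Groth.Agent.Nakai.clMonoid

variable (A : Type u) [CommRing A] [IsNoetherianRing A] {X : Scheme.{u}} [X.Over (Spec (CommRingCat.of A))]
  [IsProper (X ↘ Spec (CommRingCat.of A))] {I : X.IdealSheafData} {L : X.Modules}

include A in
theorem hom_eq_zero_of_hh {P P' G : X.Modules} (hP' : PicF.IsInvertible P')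
    (θ : CohB1.tensorMod P P' ≅ Coh.structureModule X)
    (h : Subsingleton (Coh.HH X (CohB1.tensorMod G P') 0)) (φ : P ⟶ G) : φ = 0 :=
  haveI := hom_subsingleton A hP' θ h
  Subsingleton.elim _ _

include A in
theorem homToFormal_twist (hL : ClSub.IsInverseOf L (ClSub.idealMod I)) (hamp : CohB1.IsAmple L)
    [Flat (X ↘ Spec (CommRingCat.of A))]
    (hdepth : ∀ x : X, IsClosed ({(X ↘ Spec (CommRingCat.of A)).asFiber x} :
        Set ↥((X ↘ Spec (CommRingCat.of A)).fiber ((X ↘ Spec (CommRingCat.of A)) x))) →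
      (2 : ℕ∞) ≤ LocCoh.depth (CInt.fiberStalk (X ↘ Spec (CommRingCat.of A)) x)
        (CInt.fiberStalk (X ↘ Spec (CommRingCat.of A)) x))
    {P P' : X.Modules} (hP : PicF.IsInvertible P) (hP' : PicF.IsInvertible P') (a : ℕ)
    (h1 : PicF.cl P * PicF.cl P' = 1) (h2 : PicF.cl P' = PicF.cl L ^ a) :
    Lef.HomToFormalBijective I P := by
  haveI : IsLocallyNoetherian X := LocallyOfFiniteType.isLocallyNoetherian (X ↘ Spec (CommRingCat.of A))
  obtain ⟨e⟩ := hL
  have e' : CohB1.tensorMod (ClSub.idealMod I) L ≅ Coh.structureModule X := TMul.commIso _ _ ≪≫ e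
  have hi : PicF.IsInvertible (ClSub.idealMod I) := Groth.Agent.S2122.result _ _ e'
  have hC := (Groth.Agent.S8914.result I).1 hi
  have hI1 : PicF.cl (ClSub.idealMod I) * PicF.cl L = 1 := by
    rw [← cl_tensor, ← cl_one]; exact (PicGrp.cl_eq_cl_iff _ _).2 ⟨e'⟩
  obtain ⟨hflat, hd⟩ := structure_hyp A (X := X) 2 hdepth
  obtain ⟨m₀, hm₀'⟩ := exists_vanishing A (Coh.structureModule X) RefStalk.isCoh_structureModule hflat 2 hd hamp hi ⟨e'⟩
  have hm₀ : ∀ m, m₀ ≤ m → ∀ j, j < 2 → Subsingleton (Coh.HH X (CohB1.tensorPow (ClSub.idealMod I) m) j) :=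
    fun m hm j hj => CohQC.hh_subsingleton_of_iso (TMul.leftUnitIso _) j (hm₀' m hm j hj)
  have hvan : ∀ m, m₀ + a ≤ m → ∀ j, j < 2 →
      Subsingleton (Coh.HH X (CohB1.tensorMod (ClSub.idealMod (I ^ (m + 1))) P') j) := fun m hm j hj => by
    refine CohQC.hh_subsingleton_of_iso (iso_of_cl ?_).some j (hm₀ (m + 1 - a) (by omega) j hj)
    rw [cl_pow, cl_tensor, (idealMod_pow hC m).2, h2]
    conv_rhs => rw [show m + 1 = m + 1 - a + a by omega, pow_add, mul_assoc, ← mul_pow, hI1, one_pow, mul_one]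
  have hθ : ∀ {A B : X.Modules}, PicF.cl A * PicF.cl B = 1 → (CohB1.tensorMod A B ≅ Coh.structureModule X) :=
    fun h => (iso_of_cl (by rw [cl_tensor, cl_one]; exact h)).some
  have hzero : ∀ m, m₀ + a ≤ m → ∀ φ : P ⟶ Coh.structureModule X,
      φ ≫ ClSub.toSubscheme (I ^ (m + 1)) = 0 → φ = 0 := fun m hm φ h => by
    obtain ⟨l, hl⟩ : ∃ l : P ⟶ ClSub.idealMod (I ^ (m + 1)), l ≫ ClSub.idealModι (I ^ (m + 1)) = φ :=
      ⟨kernel.lift _ φ h, kernel.lift_ι _ _ _⟩
    rw [← hl, hom_eq_zero_of_hh A hP' (hθ h1) (hvan m hm 0 (by omega)) l, zero_comp]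
  refine ⟨fun φ ψ hn => sub_eq_zero.1 (hzero _ le_rfl _ (by rw [Preadditive.sub_comp, hn, sub_self])), fun y hy => ?_⟩
  haveI := SerrePn.enoughInjectives (X := X)
  haveI : HasExt.{u} X.Modules := hasExt_of_enoughInjectives X.Modules
  have hlift : ∀ m, m₀ + a ≤ m → ∃ φ : P ⟶ Coh.structureModule X, φ ≫ ClSub.toSubscheme (I ^ (m + 1)) = y m := by
    intro m hm
    haveI := SerrePn.subsingleton_ext_of_hh A hP hP' (hθ h1) (hθ (by rw [mul_comm]; exact h1)) 0
      (ClSub.idealMod (I ^ (m + 1))) (hvan m hm 1 (by omega))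
    obtain ⟨x, hx⟩ := Ext.covariant_sequence_exact₃ P (CurveRR.ideal_shortExact (I ^ (m + 1))) (Ext.mk₀ (y m))
      (zero_add 1) (Subsingleton.elim _ _)
    obtain ⟨φ, rfl⟩ := (Ext.mk₀_bijective _ _).2 x
    exact ⟨φ, (Ext.mk₀_bijective _ _).1 ((Ext.mk₀_comp_mk₀ _ _).symm.trans hx)⟩
  choose φ hφ using hlift
  let N := m₀ + a
  refine ⟨φ N le_rfl, fun n => ?_⟩
  have hN : ∀ m (hm : N ≤ m), φ m hm = φ N le_rfl := fun m hm => sub_eq_zero.1 (hzero N le_rfl _ (by
    rw [Preadditive.sub_comp, hφ N le_rfl, ← toSubscheme_quotMap (pow_le_pow hm), ← Category.assoc, hφ m hm,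
      isFormal_quotMap hy hm, sub_self]))
  rw [← hN (max n N) (le_max_right _ _), ← toSubscheme_quotMap (pow_le_pow (le_max_left n N)), ← Category.assoc,
    hφ, isFormal_quotMap hy (le_max_left n N)]

include A in
/-- Morphisms from a coherent module to the structure sheaf are the morphisms to its completion. -/
theorem homToFormal_coherent (hL : ClSub.IsInverseOf L (ClSub.idealMod I)) (hamp : CohB1.IsAmple L)
    [Flat (X ↘ Spec (CommRingCat.of A))]
    (hdepth : ∀ x : X, IsClosed ({(X ↘ Spec (CommRingCat.of A)).asFiber x} :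
        Set ↥((X ↘ Spec (CommRingCat.of A)).fiber ((X ↘ Spec (CommRingCat.of A)) x))) →
      (2 : ℕ∞) ≤ LocCoh.depth (CInt.fiberStalk (X ↘ Spec (CommRingCat.of A)) x)
        (CInt.fiberStalk (X ↘ Spec (CommRingCat.of A)) x))
    (F : X.Modules) (hF : Coh.IsCoh F) : Lef.HomToFormalBijective I F := by
  haveI : IsLocallyNoetherian X := LocallyOfFiniteType.isLocallyNoetherian (X ↘ Spec (CommRingCat.of A))
  have hpow : ∀ n, PicF.IsInvertible (CohB1.tensorPow L n) := fun n => TMul.isInvertible_tensorPow hamp.1 n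
  have hcl : ∀ n, PicF.cl (RefHull.dual (CohB1.tensorPow L n)) * PicF.cl (CohB1.tensorPow L n) = 1 := fun n => by
    obtain ⟨e⟩ := ResDesc.nonempty_dual_tensor_iso (hpow n)
    have := (PicGrp.cl_eq_cl_iff _ _).2 ⟨e⟩
    rwa [cl_tensor, cl_tensor, cl_one, mul_one] at this
  have hdual : ∀ n, PicF.IsInvertible (RefHull.dual (CohB1.tensorPow L n)) := fun n =>
    Groth.Agent.S2122.result _ _ (iso_of_cl (A := CohB1.tensorMod (RefHull.dual (CohB1.tensorPow L n))
      (CohB1.tensorPow L n)) (B := Coh.structureModule X) (by rw [cl_tensor, cl_one]; exact hcl n)).some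
  have hP : ∀ n, Lef.HomToFormalBijective I (RefHull.dual (CohB1.tensorPow L n)) := fun n =>
    homToFormal_twist A hL hamp hdepth (hdual n) (hpow n) n (hcl n) (cl_pow L n)
  have hcoh : ∀ (n c : ℕ), Coh.IsCoh (∐ fun _ : Fin c => RefHull.dual (CohB1.tensorPow L n)) := fun n c =>
    K0Coh.isCoh_of_iso (biproduct.isoCoproduct _) (Devissage.isCoh_biproduct _ fun _ =>
      K0Coh.isCoh_of_isFinLocFree (ResDesc.isFinLocFree_of_isInvertible (hdual n)))
  obtain ⟨n₁, h₁⟩ := ExtShX.exists_cover_twists hamp F hF.1 hF.2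
  obtain ⟨c, p, hp⟩ := h₁ n₁ le_rfl
  have hK : Coh.IsCoh (kernel p) := Groth.Agent.QC.isCoh_kernel (hcoh n₁ c) hF.1 p
  obtain ⟨n₂, h₂⟩ := ExtShX.exists_cover_twists hamp (kernel p) hK.1 hK.2
  obtain ⟨c', q, hq⟩ := h₂ n₂ le_rfl
  refine LefDiv.homToFormal_of_presentation (q ≫ kernel.ι p) p (by rw [Category.assoc, kernel.condition, comp_zero]) ?_
    (LefDiv.homToFormal_sigma _ fun _ => hP n₁) (LefDiv.homToFormal_sigma _ fun _ => hP n₂)
  have h0 : (ShortComplex.mk (kernel.ι p) p (kernel.condition p)).Exact :=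
    ShortComplex.exact_of_f_is_kernel _ (kernelIsKernel p)
  let φ : ShortComplex.mk (q ≫ kernel.ι p) p (by rw [Category.assoc, kernel.condition, comp_zero]) ⟶
      ShortComplex.mk (kernel.ι p) p (kernel.condition p) := { τ₁ := q, τ₂ := 𝟙 _, τ₃ := 𝟙 _ }
  haveI : Epi φ.τ₁ := hq
  haveI : IsIso φ.τ₂ := IsIso.id _
  haveI : Mono φ.τ₃ := inferInstanceAs (Mono (𝟙 _))
  exact (ShortComplex.exact_iff_of_epi_of_isIso_of_mono φ).2 h0

include A in
/-- Lef(X, Y) for an ample divisor, flat with fibres of depth at least two. -/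
theorem lefCond (hL : ClSub.IsInverseOf L (ClSub.idealMod I)) (hamp : CohB1.IsAmple L)
    [Flat (X ↘ Spec (CommRingCat.of A))]
    (hdepth : ∀ x : X, IsClosed ({(X ↘ Spec (CommRingCat.of A)).asFiber x} :
        Set ↥((X ↘ Spec (CommRingCat.of A)).fiber ((X ↘ Spec (CommRingCat.of A)) x))) →
      (2 : ℕ∞) ≤ LocCoh.depth (CInt.fiberStalk (X ↘ Spec (CommRingCat.of A)) x)
        (CInt.fiberStalk (X ↘ Spec (CommRingCat.of A)) x)) :
    Lef.LefCond X I := by
  intro U hU D hD
  haveI : IsLocallyNoetherian X := LocallyOfFiniteType.isLocallyNoetherian (X ↘ Spec (CommRingCat.of A))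
  haveI : CompactSpace ↥X := QuasiCompact.compactSpace_of_compactSpace (X ↘ Spec (CommRingCat.of A))
  haveI : IsNoetherian X := ⟨⟩
  let f := X ↘ Spec (CommRingCat.of A)
  have hdep : ∀ x : X, x ∉ U → (2 : ℕ∞) ≤ LocCoh.depth (X.presheaf.stalk x) (X.presheaf.stalk x) := fun x hx => by
    exact_mod_cast LefDiv.le_depth_stalk_of_fibre f (d := 2) x (hdepth x (LefDiv.isClosed_asFiber_of_disjoint f I L
      hL hamp (U : Set X)ᶜ U.2.isClosed_compl (Set.disjoint_left.2 fun w hw hwI => hw (hU hwI)) x hx))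
  have hDc : Coh.IsCoh D :=
    ⟨LocFree.isQCoh_of_isFinLocFree hD, LocFree.isFT_of_isFinLocFree hD⟩
  haveI := hDc.1
  haveI : ((Scheme.Modules.pushforward U.ι).obj D).IsQuasicoherent := Groth.Agent.QC.isQCoh_pushforward U.ι
  let u : D ≅ ((Scheme.Modules.pushforward U.ι).obj D).restrict U.ι :=
    (asIso ((Scheme.Modules.restrictAdjunction U.ι).counit.app D)).symm
  obtain ⟨D', i', e, -, hq, hft, -⟩ := Groth.Agent.QC.exists_ft_extension
    (fun x => ⟨⊤, trivial, by
      haveI : NoetherianSpace ↥X := inferInstance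
      infer_instance⟩) U D u.hom hDc.2
  exact LefDiv.homToFormal_of_iso e
    (LefDiv.homToFormal_restrict U hU hdep (homToFormal_coherent A hL hamp hdepth D' ⟨hq, hft⟩))

end Groth.Agent.LefRel
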