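import Groth.Agent.ProjMor.VAmpleApply
import Groth.Agent.PnSpec.Twist
import Groth.Agent.ProjMor.ProjSpaceBase
import Groth.Prelude.Def_LCI2

/-!
# Closed immersions of projective schemes over an affine base, into spaces of large dimension
-/

set_option autoImplicit false
set_option linter.style.haveILetI false
set_option linter.unusedSectionVars false
set_option backward.isDefEq.respectTransparency false
set_option backward.isDefEq.respectTransparency.types false

universe u

open CategoryTheory CategoryTheory.Limits AlgebraicGeometry Opposite TopologicalSpace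
open Groth.Agent.QC (res resO res_res res_smul resO_resO app_res)
open TMul (IsGen val homOf val_homOf)
open ProjMor

noncomputable section

namespace Groth.Agent.LefRel

variable {X S : Scheme.{u}}

/-- Very ampleness from chart sections, with projective space of prescribed minimal dimension. -/
theorem isImmersion_chartSections (f : X ⟶ S) {N : X.Modules} (hN : PicF.IsInvertible N)
    (h : HasChartSections f N) (k : ℕ) :
    ∃ (n : ℕ) (i : X ⟶ CohB1.ProjSpaceOver n S), IsImmersion i ∧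
      i ≫ CohB1.ProjSpaceOver.toBase n S = f ∧
      Nonempty (N ≅ (Scheme.Modules.pullback i).obj (Twist.twistOver n S 1)) ∧ k ≤ n := by
  classical
  obtain ⟨ι₀, _, s₀, hs₀⟩ := h
  let ι := ι₀ ⊕ ULift.{u} (Fin k)
  let s : ι → Γ(N, ⊤) := Sum.elim s₀ fun _ => 0
  have hcard : k ≤ Fintype.card ι := by simp [ι]
  have hs : ∀ x : X, ∃ (i : ι) (V : S.Opens)
      (h2 : CohB1.genLocus N (homOf (s i)) ≤ f ⁻¹ᵁ V), x ∈ CohB1.genLocus N (homOf (s i)) ∧
      IsAffineOpen V ∧ IsAffineOpen (CohB1.genLocus N (homOf (s i))) ∧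
      Subring.closure (Set.range (ev f V (CohB1.genLocus N (homOf (s i))) h2) ∪
        {c | ∃ j, c • res N (le_top : CohB1.genLocus N (homOf (s i)) ≤ ⊤) (s i) =
          res N (le_top : CohB1.genLocus N (homOf (s i)) ≤ ⊤) (s j)}) = ⊤ := fun x => by
    obtain ⟨i, V, h2, hx, hV, hU, hclo⟩ := hs₀ x
    refine ⟨Sum.inl i, V, h2, hx, hV, hU, ?_⟩
    rw [eq_top_iff, ← hclo]
    refine Subring.closure_mono (Set.union_subset_union_right _ ?_)
    rintro c ⟨j, hj⟩
    exact ⟨Sum.inl j, hj⟩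
  let e := Fintype.equivFin ι
  let n := Fintype.card ι
  let s' : Fin (n + 1) → ProjUP.Γm N := Fin.cons (0 : Γ(N, ⊤)) fun k => s (e.symm k)
  have hs' : ∀ i, ∃ j, s' j = s i := fun i => ⟨(e i).succ, by simp [s']⟩
  have hgen : ProjUP.GeneratedBy N s' := generatedBy_of_mem_genLocus s' fun x => by
    obtain ⟨i, V, h2, hx, -⟩ := hs x
    obtain ⟨j, hj⟩ := hs' i
    exact ⟨j, by rw [hj]; exact hx⟩
  obtain ⟨m, hm, hiso, hj⟩ := exists_toProjSpaceOver f hN s' hgen
  refine ⟨n, m, ?_, hm, hiso, hcard⟩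
  refine isImmersion_of_charts m fun x => ?_
  obtain ⟨i, V, h2, hx, hV, hU, hclo⟩ := hs x
  obtain ⟨j, hji⟩ := hs' i
  obtain ⟨hloc, hrat⟩ := hj j
  have hpre : (m ≫ pz n S) ⁻¹ᵁ chart n j = CohB1.genLocus N (homOf (s i)) := by rw [hloc, hji]
  subst hm
  refine ⟨j, V, CohB1.genLocus N (homOf (s i)), hpre.ge, h2, hx, hV, inf_le_left.trans hpre.le, hU, ?_⟩
  rw [eq_top_iff, ← hclo, Subring.closure_le]
  rintro c (⟨a, rfl⟩ | ⟨k, hk⟩)
  · exact Subring.subset_closure (Or.inl ⟨a, rfl⟩)
  · obtain ⟨l, hl⟩ := hs' k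
    refine Subring.subset_closure (Or.inr ⟨l, ?_⟩)
    have hg := (isGen_homOf (s i) (CohB1.genLocus N (homOf (s i))) le_rfl).1
    refine hg ?_
    change _ • res N le_rfl (res N le_top (s i)) = c • res N le_rfl (res N le_top (s i))
    rw [Groth.Agent.QC.res_self, hk, ← hl]
    have e1 := congrArg (res N hpre.ge) (hrat l)
    rw [res_smul, res_res, res_res, ev_res] at e1
    refine Eq.trans (congrArg (fun t : Γ(N, ⊤) => HSMul.hSMul (α := Γ(X, CohB1.genLocus N (homOf (s i))))
      (ev (m ≫ pz n S) (chart n j) _ hpre.ge (ratio n j l)) (res N le_top t)) hji.symm) e1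

/-- A power of an ample module gives a closed immersion in projective space over the base ring. -/
theorem exists_closedImmersion {A : Type u} [CommRing A] (f : X ⟶ Spec (CommRingCat.of A)) [IsProper f]
    {L : X.Modules} (hL : CohB1.IsAmple L) (k : ℕ) :
    ∃ (n d : ℕ) (r : X ⟶ CohB1.ProjSpace n A), k ≤ n ∧ 0 < d ∧ r ≫ CohB1.ProjSpace.toSpec n A = f ∧
      IsClosedImmersion r ∧
      Nonempty ((Scheme.Modules.pullback r).obj (Twist.twistProjSpace n A 1) ≅ CohB1.tensorPow L d) := by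
  obtain ⟨d, hd, hcs⟩ := exists_hasChartSections f hL
  obtain ⟨n, i, hi, hif, ⟨τ⟩, hk⟩ := isImmersion_chartSections f (TMul.isInvertible_tensorPow hL.1 d) hcs k
  obtain ⟨e, he, hetw⟩ := PnSpec.exists_iso_twist n A
  obtain ⟨ε⟩ := hetw 1
  have hr : (i ≫ e.inv) ≫ CohB1.ProjSpace.toSpec n A = f := by
    rw [← he, Category.assoc, Iso.inv_hom_id_assoc, hif]
  have := ProjMor.isProper_toSpec n A
  have : IsProper ((i ≫ e.inv) ≫ CohB1.ProjSpace.toSpec n A) := by rw [hr]; infer_instance
  have : IsProper (i ≫ e.inv) := IsProper.of_comp _ (CohB1.ProjSpace.toSpec n A)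
  refine ⟨n, d, i ≫ e.inv, hk, hd, hr,
    IsClosedImmersion.of_isPreimmersion _ (i ≫ e.inv).isClosedMap.isClosed_range, ⟨?_⟩⟩
  exact (Scheme.Modules.pullback (i ≫ e.inv)).mapIso ε.symm ≪≫
    (Scheme.Modules.pullbackComp (i ≫ e.inv) e.hom).app _ ≪≫
    (Scheme.Modules.pullbackCongr (by simp)).app _ ≪≫ τ.symm

end Groth.Agent.LefRel
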