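import Groth.Agent.LefRel.VanishP
import Groth.Agent.FibrePd.Basic
import Groth.Agent.FibDepth.AB
import Groth.Agent.CMFlat.Scheme
import Groth.Agent.CycPB.RelBundle
import Groth.Agent.CycPB.BundleSmooth
import Groth.Agent.SerrePn.Local
import Groth.Agent.SerrePn.ClosedDepth
import Groth.Agent.RefStalk.Extend
import Groth.Agent.KFlat.Pullback
import Groth.Agent.ProjMor.ProjSpaceBase
import Groth.Prelude.Def_FlatMod2
import Groth.Prelude.Def_ega3

/-!
# Projective dimension of a module on projective space from the depths on the fibres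
-/

set_option autoImplicit false
set_option linter.style.haveILetI false
set_option linter.unusedSectionVars false
set_option backward.isDefEq.respectTransparency false
set_option backward.isDefEq.respectTransparency.types false

universe u

open CategoryTheory CategoryTheory.Limits AlgebraicGeometry Opposite IsLocalRing TopologicalSpace
open scoped TensorProduct

noncomputable section

namespace Groth.Agent.LefRel

/-- Depth of the reduction of a module along a surjection of rings. -/
theorem depth_quot {B C R' : Type u} [CommRing B] [IsLocalRing B] [IsNoetherianRing B] [CommRing C]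
    [CommRing R'] [IsLocalRing R'] [Algebra B C] [Algebra C R'] [Algebra B R'] [IsScalarTower B C R']
    (hBC : Function.Surjective (algebraMap B C)) (hCR : Function.Surjective (algebraMap C R'))
    (J : Ideal B) (hJ : RingHom.ker (algebraMap C R') = J.map (algebraMap B C)) [IsLocalRing (B ⧸ J)]
    (M : Type u) [AddCommGroup M] [Module C M] [Module B M] [IsScalarTower B C M] [Module.Finite B M] :
    LocCoh.depth R' (R' ⊗[C] M) = LocCoh.depth (B ⧸ J) ((B ⧸ J) ⊗[B] M) := by
  have hBR : Function.Surjective (algebraMap B R') := by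
    rw [IsScalarTower.algebraMap_eq B C R']; exact hCR.comp hBC
  haveI : IsNoetherianRing R' := isNoetherianRing_of_surjective B R' _ hBR
  haveI : IsScalarTower B R' (R' ⊗[C] M) := IsScalarTower.of_algebraMap_smul fun b x => by
    induction x with
    | zero => simp
    | tmul r m => rw [TensorProduct.smul_tmul', TensorProduct.smul_tmul', algebraMap_smul]
    | add x y hx hy => simp only [smul_add, hx, hy]
  let e1 : R' ⊗[C] M ≃ₗ[C] M ⧸ (J.map (algebraMap B C) • (⊤ : Submodule C M)) :=
    (TensorProduct.congr ((Submodule.quotEquivOfEq _ (LinearMap.ker (Algebra.linearMap C R')) hJ.symm).trans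
      ((Algebra.linearMap C R').quotKerEquivOfSurjective hCR)).symm (LinearEquiv.refl C M)).trans
      (TensorProduct.quotTensorEquivQuotSMul M _)
  let e2 : R' ⊗[C] M ≃ₗ[B] M ⧸ (J • (⊤ : Submodule B M)) :=
    (e1.restrictScalars B).trans ((Submodule.Quotient.restrictScalarsEquiv B
      (J.map (algebraMap B C) • (⊤ : Submodule C M))).symm.trans
      (Submodule.quotEquivOfEq _ _ (by rw [Ideal.smul_restrictScalars, Submodule.restrictScalars_top])))
  haveI : Module.Finite B (R' ⊗[C] M) := Module.Finite.equiv e2.symm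
  haveI : Module.Finite B ((B ⧸ J) ⊗[B] M) := inferInstance
  rw [← LocH.depth_eq_of_surjective hBR (R' ⊗[C] M),
    ← LocH.depth_eq_of_surjective (A := B) (B := B ⧸ J) Ideal.Quotient.mk_surjective ((B ⧸ J) ⊗[B] M)]
  exact LocH.idealDepth_congr (e2.trans (TensorProduct.quotTensorEquivQuotSMul M J).symm) _

/-- Projective dimension over a flat local algebra from the depth on the closed fibre. -/
theorem pdLE_of_fibre_depth (A₀ : Type u) {B : Type u} [CommRing A₀] [IsLocalRing A₀] [CommRing B]
    [IsNoetherianRing B] [IsLocalRing B] [Algebra A₀ B] [IsLocalHom (algebraMap A₀ B)] [Module.Flat A₀ B]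
    [IsRegularLocalRing (EGA4.FibRing A₀ B)] {N r : ℕ} (hd : ringKrullDim (EGA4.FibRing A₀ B) = N)
    (M : Type u) [AddCommGroup M] [Module B M] [Module A₀ M] [IsScalarTower A₀ B M] [Module.Finite B M]
    [Module.Flat A₀ M]
    (h : ((N - r : ℕ) : ℕ∞) ≤ LocCoh.depth (EGA4.FibRing A₀ B) (EGA4.FibRing A₀ B ⊗[B] M)) :
    SerreReg.PdLE B M r :=
  (FibrePd.pdLE_fibre_iff A₀ r M).2 ((FibDepth.pdLE_iff_le_depth _ hd r _).2 h)

variable (N : ℕ) (A : Type u) [CommRing A] [IsNoetherianRing A]

local notation "P" => CohB1.ProjSpace N A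

/-- The fibres of projective space. -/
theorem exists_fiber_iso (s : ↥(Spec (CommRingCat.of A))) :
    Nonempty (CohB1.ProjSpace N ((Spec (CommRingCat.of A)).residueField s) ≅
      (CohB1.ProjSpace.toSpec N A).fiber s) := by
  let g := (Spec.preimage ((Spec (CommRingCat.of A)).fromSpecResidueField s)).hom
  obtain ⟨Φ, hΦ, -⟩ := CycPB.exists_projSpace_baseChange N g
  rw [show CommRingCat.ofHom g = Spec.preimage ((Spec (CommRingCat.of A)).fromSpecResidueField s) from rfl,
    Spec.map_preimage] at hΦ
  exact ⟨hΦ.isoPullback⟩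

/-- The local rings of the fibres of projective space at their closed points. -/
theorem fiber_regular (s : ↥(Spec (CommRingCat.of A))) (z : ↥((CohB1.ProjSpace.toSpec N A).fiber s))
    (hz : IsClosed ({z} : Set ↥((CohB1.ProjSpace.toSpec N A).fiber s))) :
    IsRegularLocalRing (((CohB1.ProjSpace.toSpec N A).fiber s).presheaf.stalk z) ∧
      ringKrullDim (((CohB1.ProjSpace.toSpec N A).fiber s).presheaf.stalk z) = N := by
  obtain ⟨e⟩ := exists_fiber_iso N A s
  obtain ⟨w, rfl⟩ := e.hom.surjective z
  have hw : IsClosed ({w} : Set _) := by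
    have := hz.preimage e.hom.continuous
    convert this using 1
    ext v
    exact ⟨fun h => congrArg _ h, fun h => e.hom.homeomorph.injective h⟩
  let ε := (asIso (e.hom.stalkMap w)).commRingCatIsoToRingEquiv
  haveI := SerrePn.isRegularLocalRing_stalk _ N w
  exact ⟨IsRegularLocalRing.of_ringEquiv ε.symm,
    (ringKrullDim_eq_of_ringEquiv ε).trans (SerrePn.ringKrullDim_stalk _ N w hw)⟩

/-- The closed fibre ring of a local ring of projective space at a point closed in its fibre. -/
theorem fibRing_regular (y : P)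
    (hy : IsClosed ({(CohB1.ProjSpace.toSpec N A).asFiber y} :
      Set ↥((CohB1.ProjSpace.toSpec N A).fiber ((CohB1.ProjSpace.toSpec N A) y)))) :
    letI := ((CohB1.ProjSpace.toSpec N A).stalkMap y).hom.toAlgebra
    IsRegularLocalRing (EGA4.FibRing ((Spec (CommRingCat.of A)).presheaf.stalk ((CohB1.ProjSpace.toSpec N A) y))
      ((CohB1.ProjSpace N A).presheaf.stalk y)) ∧
    ringKrullDim (EGA4.FibRing ((Spec (CommRingCat.of A)).presheaf.stalk ((CohB1.ProjSpace.toSpec N A) y))
      ((CohB1.ProjSpace N A).presheaf.stalk y)) = N := by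
  letI := ((CohB1.ProjSpace.toSpec N A).stalkMap y).hom.toAlgebra
  obtain ⟨e⟩ := CMFlat.nonempty_fiberStalk_equiv (CohB1.ProjSpace.toSpec N A) y
  obtain ⟨h1, h2⟩ := fiber_regular N A _ _ hy
  haveI := h1
  exact ⟨IsRegularLocalRing.of_ringEquiv e.symm, (ringKrullDim_eq_of_ringEquiv e).trans h2⟩

/-- A point closed in its fibre, in terms of specialisations. -/
theorem isClosed_asFiber_iff {X S : Scheme.{u}} (f : X ⟶ S) (x : X) :
    IsClosed ({f.asFiber x} : Set ↥(f.fiber (f x))) ↔ ∀ x' : X, x ⤳ x' → f x' = f x → x' = x := by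
  have hind : Topology.IsEmbedding (f.fiberι (f x)) := (f.fiberι (f x)).isEmbedding
  constructor
  · intro h x' hx' hfx'
    obtain ⟨z, rfl⟩ : x' ∈ Set.range (f.fiberι (f x)) := by
      rw [Scheme.Hom.range_fiberι]; exact hfx'
    have hs : f.asFiber x ⤳ z := by
      rw [← hind.isInducing.specializes_iff, Scheme.Hom.fiberι_asFiber]; exact hx'
    rw [show z = f.asFiber x from hs.mem_closed h rfl, Scheme.Hom.fiberι_asFiber]
  · intro h
    refine closure_subset_iff_isClosed.1 fun z hz => hind.injective ?_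
    rw [Scheme.Hom.fiberι_asFiber]
    refine h _ ?_ ?_
    · have := hind.isInducing.specializes_iff.2 (specializes_iff_mem_closure.2 hz)
      rwa [Scheme.Hom.fiberι_asFiber] at this
    · have : f.fiberι (f x) z ∈ Set.range (f.fiberι (f x)) := ⟨z, rfl⟩
      rwa [Scheme.Hom.range_fiberι] at this

/-- Every point specialises to a point closed in its fibre. -/
theorem exists_closed_fibre {X S : Scheme.{u}} (f : X ⟶ S) [LocallyOfFiniteType f] (x : X) :
    ∃ y : X, x ⤳ y ∧ IsClosed ({f.asFiber y} : Set ↥(f.fiber (f y))) := by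
  haveI : LocallyOfFiniteType (f.fiberToSpecResidueField (f x)) :=
    inferInstanceAs (LocallyOfFiniteType (pullback.snd f ((S.fromSpecResidueField (f x)))))
  haveI : JacobsonSpace ↥(f.fiber (f x)) := LocallyOfFiniteType.jacobsonSpace (f.fiberToSpecResidueField (f x))
  obtain ⟨z, hz1, hz2⟩ := nonempty_inter_closedPoints (Z := closure {f.asFiber x})
    ⟨_, subset_closure rfl⟩ isClosed_closure.isLocallyClosed
  have hs : x ⤳ f.fiberι (f x) z := by
    have := (specializes_iff_mem_closure.2 hz1).map (f.fiberι (f x)).continuous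
    rwa [Scheme.Hom.fiberι_asFiber] at this
  have hf : f (f.fiberι (f x) z) = f x := by
    have : f.fiberι (f x) z ∈ Set.range (f.fiberι (f x)) := ⟨z, rfl⟩
    rwa [Scheme.Hom.range_fiberι] at this
  refine ⟨_, hs, (isClosed_asFiber_iff f _).2 fun x' hx' hfx' => ?_⟩
  obtain ⟨z', rfl⟩ : x' ∈ Set.range (f.fiberι (f x)) := by
    rw [Scheme.Hom.range_fiberι]; exact hfx'.trans hf
  rw [show z' = z from (((f.fiberι (f x)).isEmbedding.isInducing.specializes_iff).1 hx').mem_closed hz2 rfl]

/-- Projective dimension at all points from the points closed in their fibres. -/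
theorem pdLE_all : ∀ (r : ℕ) (G : (CohB1.ProjSpace N A).Modules), Coh.IsCoh G →
    (∀ y : P, IsClosed ({(CohB1.ProjSpace.toSpec N A).asFiber y} :
        Set ↥((CohB1.ProjSpace.toSpec N A).fiber ((CohB1.ProjSpace.toSpec N A) y))) →
      SerreReg.PdLE ((CohB1.ProjSpace N A).presheaf.stalk y) (G.presheaf.stalk y) r) →
    ∀ x : P, SerreReg.PdLE ((CohB1.ProjSpace N A).presheaf.stalk x) (G.presheaf.stalk x) r := by
  haveI := CohFinite.isNoetherian_projSpace N A
  haveI : IsProper (CohB1.ProjSpace.toSpec N A) := ProjMor.isProper_toSpec N A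
  intro r
  induction r with
  | zero =>
    intro G hG h x
    obtain ⟨y, hxy, hy⟩ := exists_closed_fibre (CohB1.ProjSpace.toSpec N A) x
    haveI := RegDual.finite_stalk hG y
    haveI := (SerreReg.pdLE_zero_iff _).1 (h y hy)
    obtain ⟨U, hU, hyU, hfree⟩ := RefStalk.exists_free_affine hG (x := y) Module.free_of_flat_of_isLocalRing
    haveI := hfree
    haveI := RefStalk.free_stalk_of_free_sections hG.1 hU (hxy.mem_open U.2 hyU)
    exact (SerreReg.pdLE_zero_iff _).2 Module.Projective.of_free
  | succ r ih =>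
    intro G hG h x
    obtain ⟨M, l, p, hp⟩ := exists_cover N A G hG
    have hT : Coh.IsCoh (⨁ fun _ : Fin l => O N A (-(M : ℤ))) :=
      Devissage.isCoh_biproduct _ fun _ => CohFinite.isCoh_twist N A _
    have hTl := isFinLocFree_twists N A l M
    exact (pdLE_kernel_iff N A p hTl x r).2 (ih _ (Groth.Agent.QC.isCoh_kernel hT hG.1 p)
      (fun y hy => (pdLE_kernel_iff N A p hTl y r).1 (h y hy)) x)

/-- Depth on the fibre bounds the projective dimension of a pushforward to projective space. -/
theorem pdLE_push_point {X : Scheme.{u}} [IsLocallyNoetherian X] (i : X ⟶ P) [IsClosedImmersion i]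
    (E : X.Modules) (hE : Coh.IsCoh E) (hflat : FlatMod.IsFlatOver (i ≫ CohB1.ProjSpace.toSpec N A) E)
    {d r : ℕ} (hr : N ≤ r + d) (s : ↥(Spec (CommRingCat.of A)))
    (z : ↥((i ≫ CohB1.ProjSpace.toSpec N A).fiber s))
    (hy : IsClosed ({(CohB1.ProjSpace.toSpec N A).asFiber (i ((i ≫ CohB1.ProjSpace.toSpec N A).fiberι s z))} :
      Set ↥((CohB1.ProjSpace.toSpec N A).fiber _)))
    (hd : (d : ℕ∞) ≤ LocCoh.depth (((i ≫ CohB1.ProjSpace.toSpec N A).fiber s).presheaf.stalk z)
      ((CohIII.fiberMod (i ≫ CohB1.ProjSpace.toSpec N A) E s).presheaf.stalk z)) :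
    SerreReg.PdLE ((CohB1.ProjSpace N A).presheaf.stalk (i ((i ≫ CohB1.ProjSpace.toSpec N A).fiberι s z)))
      (((Scheme.Modules.pushforward i).obj E).presheaf.stalk (i ((i ≫ CohB1.ProjSpace.toSpec N A).fiberι s z))) r := by
  haveI := CohFinite.isNoetherian_projSpace N A
  haveI := CycPB.smooth_toSpec N A
  let g := CohB1.ProjSpace.toSpec N A
  let f := i ≫ g
  let x := f.fiberι s z
  let A₀ := (Spec (CommRingCat.of A)).presheaf.stalk (g (i x))
  let B := (CohB1.ProjSpace N A).presheaf.stalk (i x)
  let C := X.presheaf.stalk x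
  let R' := (f.fiber s).presheaf.stalk z
  letI : Algebra A₀ B := (g.stalkMap (i x)).hom.toAlgebra
  haveI : Module.Flat A₀ B := Flat.stalkMap g (i x)
  haveI : IsLocalHom (algebraMap A₀ B) := inferInstanceAs (IsLocalHom (g.stalkMap (i x)).hom)
  obtain ⟨hreg, hdim⟩ := fibRing_regular N A (i x) hy
  haveI : IsRegularLocalRing (EGA4.FibRing A₀ B) := hreg
  letI : Algebra B C := (i.stalkMap x).hom.toAlgebra
  letI : Algebra C R' := ((f.fiberι s).stalkMap z).hom.toAlgebra
  letI : Algebra B R' := (((f.fiberι s).stalkMap z).hom.comp (i.stalkMap x).hom).toAlgebra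
  haveI : IsScalarTower B C R' := IsScalarTower.of_algebraMap_eq' rfl
  letI : Module B (E.presheaf.stalk x) := Module.compHom _ (algebraMap B C)
  haveI : IsScalarTower B C (E.presheaf.stalk x) := IsScalarTower.of_algebraMap_smul fun _ _ => rfl
  letI : Module A₀ (E.presheaf.stalk x) := Module.compHom _ ((algebraMap B C).comp (algebraMap A₀ B))
  haveI : IsScalarTower A₀ B (E.presheaf.stalk x) := IsScalarTower.of_algebraMap_smul fun _ _ => rfl
  haveI : Module.Flat A₀ (E.presheaf.stalk x) := by
    have h := hflat x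
    unfold FlatMod.IsFlatOverAt FlatMod.moduleStalkOver at h
    rw [Scheme.Hom.stalkMap_comp] at h
    exact h
  have hBC : Function.Surjective (algebraMap B C) := i.stalkMap_surjective x
  haveI : Module.Finite C (E.presheaf.stalk x) := RegDual.finite_stalk hE x
  haveI : Module.Finite B C := Module.Finite.of_surjective (Algebra.linearMap B C) hBC
  haveI : Module.Finite B (E.presheaf.stalk x) := Module.Finite.trans C _
  obtain ⟨hCR, hker⟩ := FibCrit.fiberι_stalkMap f s z
  have hJ : RingHom.ker (algebraMap C R') = (EGA4.mB A₀ B).map (algebraMap B C) := by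
    refine hker.trans ?_
    rw [Ideal.map_map]
    congr 1
    exact congrArg CommRingCat.Hom.hom (Scheme.Hom.stalkMap_comp i g x)
  let p : ((Scheme.Modules.pushforward i).obj E).presheaf.stalk (i x) →ₗ[B] E.presheaf.stalk x :=
    { toFun := KFlat.pushStalk i x E
      map_add' := map_add _
      map_smul' := fun b m => KFlat.pushStalk_smul i x E b m }
  refine SerreReg.pdLE_of_equiv (LinearEquiv.ofBijective p (KFlat.pushStalk_bijective i x E)).symm ?_
  refine pdLE_of_fibre_depth A₀ hdim (E.presheaf.stalk x) ?_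
  rw [← depth_quot (R' := R') hBC hCR (EGA4.mB A₀ B) hJ (E.presheaf.stalk x)]
  let eP : ((CohIII.fiberMod f E s).presheaf.stalk z) ≃ₗ[R'] R' ⊗[C] E.presheaf.stalk x :=
    ((KFlat.pullStalkIso (f.fiberι s) z).app E).toLinearEquiv
  refine le_trans ?_ (hd.trans_eq (LocH.idealDepth_congr eP _))
  exact_mod_cast (by omega : N - r ≤ d)

/-- A closed subscheme of projective space with fibres of depth at least `d` at their closed points. -/
theorem pdLE_push {X : Scheme.{u}} [IsLocallyNoetherian X] (f : X ⟶ Spec (CommRingCat.of A)) (i : X ⟶ P)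
    [IsClosedImmersion i] (hi : i ≫ CohB1.ProjSpace.toSpec N A = f)
    (E : X.Modules) (hE : Coh.IsCoh E) (hflat : FlatMod.IsFlatOver f E) {d r : ℕ} (hr : N ≤ r + d)
    (hd : ∀ x : X, IsClosed ({f.asFiber x} : Set ↥(f.fiber (f x))) →
      (d : ℕ∞) ≤ LocCoh.depth ((f.fiber (f x)).presheaf.stalk (f.asFiber x))
        ((CohIII.fiberMod f E (f x)).presheaf.stalk (f.asFiber x))) :
    ∀ y : P, SerreReg.PdLE ((CohB1.ProjSpace N A).presheaf.stalk y)
      (((Scheme.Modules.pushforward i).obj E).presheaf.stalk y) r := by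
  subst hi
  haveI := CohFinite.isNoetherian_projSpace N A
  refine pdLE_all N A r _ (SerrePn.isCoh_push i hE) fun y hy => ?_
  by_cases hr' : y ∈ Set.range i
  · obtain ⟨x, rfl⟩ := hr'
    have hx : IsClosed ({(i ≫ CohB1.ProjSpace.toSpec N A).asFiber x} :
        Set ↥((i ≫ CohB1.ProjSpace.toSpec N A).fiber _)) := by
      refine (isClosed_asFiber_iff _ x).2 fun x' hx' hfx' => ?_
      exact i.isClosedEmbedding.injective
        ((isClosed_asFiber_iff _ (i x)).1 hy (i x') (hx'.map i.continuous) hfx')
    have key : ∀ x' : X, (i ≫ CohB1.ProjSpace.toSpec N A).fiberι _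
          ((i ≫ CohB1.ProjSpace.toSpec N A).asFiber x) = x' →
        IsClosed ({(CohB1.ProjSpace.toSpec N A).asFiber (i x')} :
          Set ↥((CohB1.ProjSpace.toSpec N A).fiber _)) →
        SerreReg.PdLE ((CohB1.ProjSpace N A).presheaf.stalk (i x'))
          (((Scheme.Modules.pushforward i).obj E).presheaf.stalk (i x')) r := by
      rintro x' rfl hy'
      exact pdLE_push_point N A i E hE hflat hr _ _ hy' (hd x hx)
    exact key x (Scheme.Hom.fiberι_asFiber _ x) hy
  · haveI : Subsingleton ↑(((Scheme.Modules.pushforward i).obj E).presheaf.stalk y) :=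
      KFlat.subsingleton_stalk_push i E hr'
    haveI := Module.Free.of_subsingleton ((CohB1.ProjSpace N A).presheaf.stalk y)
      (((Scheme.Modules.pushforward i).obj E).presheaf.stalk y)
    exact SerreReg.pdLE_mono (Nat.zero_le r) ((SerreReg.pdLE_zero_iff _).2 Module.Projective.of_free)

end Groth.Agent.LefRel
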