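import Groth.Agent.LefRel.Vanish
import Groth.Agent.LefDiv.Formal
import Groth.Agent.CompInt.Conormal
import Groth.Agent.ModSiteTensor.Colimit
import Groth.Agent.FlatFunLib.ModCond
import Groth.Prelude.Def_DCoh4

/-!
# Comparison with the infinitesimal neighbourhoods of an ample divisor over an affine base
-/

set_option autoImplicit false
set_option linter.style.haveILetI false
set_option linter.unusedSectionVars false
set_option backward.isDefEq.respectTransparency false
set_option backward.isDefEq.respectTransparency.types false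

universe u

open CategoryTheory CategoryTheory.Limits AlgebraicGeometry Opposite Abelian
open Groth.Agent.Nakai (cl_tensor cl_pow cl_one iso_of_cl)
open scoped TensorProduct MonoidalCategory

noncomputable section

namespace Groth.Agent.LefRel

attribute [local instance] Groth.Agent.Nakai.clMonoid

/-- A compatible family in an inverse system comes from the source of eventually bijective maps. -/
theorem limit_of_eventually {H : Type*} {G : ℕ → Type*} (p : ∀ m, H → G m) (t : ∀ m, G (m + 1) → G m)
    (hc : ∀ m x, t m (p (m + 1) x) = p m x) (M : ℕ) (hinj : ∀ m, M ≤ m → Function.Injective (p m))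
    (hsur : ∀ m, M ≤ m → Function.Surjective (p m)) (y : ∀ m, G m) (hy : ∀ m, t m (y (m + 1)) = y m) :
    ∃ x, ∀ m, p m x = y m := by
  obtain ⟨x, hx⟩ := hsur M le_rfl (y M)
  refine ⟨x, fun m => ?_⟩
  rcases le_total M m with h | h
  · induction m, h using Nat.le_induction with
    | base => exact hx
    | succ m hm ih =>
      obtain ⟨x', hx'⟩ := hsur (m + 1) (by omega) (y (m + 1))
      have h1 : p m x' = p m x := by rw [← hc m x', hx', hy m, ih]
      rwa [hinj m hm h1] at hx'
  · induction h using Nat.decreasingInduction with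
    | self => exact hx
    | of_succ m hm ih => rw [← hc m x, ih, hy m]

variable {X : Scheme.{u}}

theorem map_comp_H {F G K : X.Modules} (f : F ⟶ G) (g : G ⟶ K) (i : ℕ) (x : Coh.HH X F i) :
    Sheaf.H.map ((SheafOfModules.toSheaf X.ringCatSheaf).map g) i
        (Sheaf.H.map ((SheafOfModules.toSheaf X.ringCatSheaf).map f) i x) =
      Sheaf.H.map ((SheafOfModules.toSheaf X.ringCatSheaf).map (f ≫ g)) i x := by
  rw [Functor.map_comp]
  exact (Sheaf.H.map_comp_apply _ _ x).symm

/-- Vanishing on the first term of a short exact sequence gives injectivity. -/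
theorem injective_of_shortExact {S : ShortComplex X.Modules} (hS' : S.ShortExact) (i : ℕ)
    (h : Subsingleton (Coh.HH X S.X₁ i)) :
    Function.Injective (Sheaf.H.map ((SheafOfModules.toSheaf X.ringCatSheaf).map S.g) i) := by
  have hS := hS'.map_of_exact (SheafOfModules.toSheaf X.ringCatSheaf)
  haveI := h
  refine (injective_iff_map_eq_zero _).2 fun x hx => ?_
  obtain ⟨x₁, hx₁⟩ := Ext.covariant_sequence_exact₂ _ hS x hx
  rw [Subsingleton.elim (α := Coh.HH X S.X₁ i) x₁ (0 : Coh.HH X S.X₁ i)] at hx₁
  exact hx₁.symm.trans (map_zero (Sheaf.H.map ((SheafOfModules.toSheaf X.ringCatSheaf).map S.f) i))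

theorem surjective_of_shortExact {S : ShortComplex X.Modules} (hS' : S.ShortExact) (i : ℕ)
    (h : Subsingleton (Coh.HH X S.X₁ (i + 1))) :
    Function.Surjective (Sheaf.H.map ((SheafOfModules.toSheaf X.ringCatSheaf).map S.g) i) := by
  have hS := hS'.map_of_exact (SheafOfModules.toSheaf X.ringCatSheaf)
  haveI := h
  intro y
  obtain ⟨x, hx⟩ := Ext.covariant_sequence_exact₃ _ hS y (n₁ := i + 1) rfl
    (Subsingleton.elim (α := Coh.HH X S.X₁ (i + 1)) _ _)
  exact ⟨x, hx⟩

/-- Tensoring the stalk of an invertible ideal with a module is injective exactly when its generator is regular. -/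
theorem rTensor_injective_iff {R J F : Type u} [CommRing R] [AddCommGroup J] [Module R J] [AddCommGroup F]
    [Module R F] (eJ : R ≃ₗ[R] J) (ι : J →ₗ[R] R) :
    Function.Injective (ι.rTensor F) ↔ IsSMulRegular F (ι (eJ 1)) := by
  have h : ∀ v : F, TensorProduct.lid R F (ι.rTensor F (eJ 1 ⊗ₜ v)) = ι (eJ 1) • v := fun v => by
    rw [LinearMap.rTensor_tmul, TensorProduct.lid_tmul]
  let eT : F ≃ₗ[R] J ⊗[R] F := (TensorProduct.lid R F).symm.trans (TensorProduct.congr eJ (LinearEquiv.refl R F))
  have hcomp : ∀ v : F, TensorProduct.lid R F (ι.rTensor F (eT v)) = ι (eJ 1) • v := fun v => h v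
  constructor
  · intro hi a b hab
    exact eT.injective (hi ((TensorProduct.lid R F).injective (by rw [hcomp, hcomp]; exact hab)))
  · intro hc a b hab
    obtain ⟨a, rfl⟩ := eT.surjective a
    obtain ⟨b, rfl⟩ := eT.surjective b
    exact congrArg eT (hc (by simpa only [hcomp] using congrArg (TensorProduct.lid R F) hab))

/-- On stalks, an ideal module inclusion tensored with `F`. -/
theorem mono_tensor_iff (J : X.IdealSheafData) (F : X.Modules) :
    Mono ((DCoh.tensorBi.map (ClSub.idealModι J)).app F) ↔
      ∀ x : X, Function.Injective (LinearMap.rTensor ((DerSch.stalkFunctor X x).obj F)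
        (CompInt.istalk J x)) := by
  have key : ∀ x : X, Function.Injective (LinearMap.rTensor ((DerSch.stalkFunctor X x).obj F)
        (CompInt.istalk J x)) ↔
      Function.Injective ((DerSch.stalkFunctor X x).map ((DCoh.tensorBi.map (ClSub.idealModι J)).app F)).hom := by
    intro x
    have hn := KFlat.stTensorIso_natural (ClSub.idealModι J) (𝟙 F) x
    rw [CategoryTheory.Functor.map_id, MonoidalCategory.tensorHom_id, CategoryTheory.Functor.map_id,
      Category.comp_id] at hn
    have h1 : ∀ v, ((DerSch.stalkFunctor X x).map ((DCoh.tensorBi.map (ClSub.idealModι J)).app F)).hom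
        ((KFlat.stTensorIso (ClSub.idealMod J) F x).toLinearEquiv v) =
        (KFlat.stTensorIso (Coh.structureModule X) F x).toLinearEquiv
          (LinearMap.rTensor ((DerSch.stalkFunctor X x).obj F)
            ((DerSch.stalkFunctor X x).map (ClSub.idealModι J)).hom v) :=
      fun v => (congrArg (fun φ => (ModuleCat.Hom.hom φ) v) hn).symm
    let eO := LinearEquiv.rTensor ((DerSch.stalkFunctor X x).obj F) (CompInt.sE (X := X) x).symm
    have h2 : ∀ v, LinearMap.rTensor ((DerSch.stalkFunctor X x).obj F) (CompInt.istalk J x) v =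
        eO (LinearMap.rTensor ((DerSch.stalkFunctor X x).obj F)
            ((DerSch.stalkFunctor X x).map (ClSub.idealModι J)).hom v) := by
      intro v
      induction v with
      | zero => simp only [map_zero]
      | tmul a b => rfl
      | add a b ha hb => simp only [map_add, ha, hb]
    constructor
    · intro hi a b hab
      obtain ⟨a, rfl⟩ := (KFlat.stTensorIso (ClSub.idealMod J) F x).toLinearEquiv.surjective a
      obtain ⟨b, rfl⟩ := (KFlat.stTensorIso (ClSub.idealMod J) F x).toLinearEquiv.surjective b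
      rw [h1, h1] at hab
      exact congrArg _ (hi (by rw [h2, h2, LinearEquiv.injective _ hab]))
    · intro hi a b hab
      rw [h2, h2] at hab
      exact (KFlat.stTensorIso (ClSub.idealMod J) F x).toLinearEquiv.injective
        (hi (by rw [h1, h1, eO.injective hab]))
  simp only [key]
  constructor
  · intro hm x
    exact (ModuleCat.mono_iff_injective _).1 (inferInstance :
      Mono ((DerSch.stalkFunctor X x).map ((DCoh.tensorBi.map (ClSub.idealModι J)).app F)))
  · intro h
    exact FlatFunLib.mono_of_stalks _ fun y => (ModuleCat.mono_iff_injective _).2 (h y)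

theorem exists_stalk_generator (J : X.IdealSheafData) (hJ : PicF.IsInvertible (ClSub.idealMod J))
    (U : X.affineOpens) (x : X) (hx : x ∈ U.1) (g : Γ(X, U.1)) (hg : J.ideal U = Ideal.span {g}) :
    ∃ eJ : X.presheaf.stalk x ≃ₗ[X.presheaf.stalk x] (ClSub.idealMod J).presheaf.stalk x,
      CompInt.istalk J x (eJ 1) = (X.presheaf.germ U.1 x hx).hom g := by
  obtain ⟨m, hm, hgen⟩ := CompInt.exists_stalk_gens J U x hx (fun _ : Unit => g) (by rw [Set.range_const]; exact hg)
  let φ := LinearMap.toSpanSingleton (X.presheaf.stalk x) ((ClSub.idealMod J).presheaf.stalk x) (m ())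
  have hsur : Function.Surjective φ := fun v => by
    obtain ⟨b, hb⟩ := hgen v
    exact ⟨b (), by rw [hb]; simp [φ]⟩
  obtain ⟨ε⟩ := CurveRR.Multi.nonempty_stalk_equiv hJ x
  have hinj : Function.Injective φ :=
    Function.Injective.of_comp (f := ε.symm) (OrzechProperty.injective_of_surjective_endomorphism
      (ε.symm.toLinearMap ∘ₗ φ) (ε.symm.surjective.comp hsur))
  exact ⟨LinearEquiv.ofBijective φ ⟨hinj, hsur⟩, by simpa [φ] using hm ()⟩

/-- Regularity of a section passes to its powers. -/
theorem mono_tensor_pow {I : X.IdealSheafData} (hI : BlowUp.IsEffCartierIdeal I) (F : X.Modules)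
    (h : Mono ((DCoh.tensorBi.map (ClSub.idealModι I)).app F)) (m : ℕ) :
    Mono ((DCoh.tensorBi.map (ClSub.idealModι (I ^ (m + 1)))).app F) := by
  rw [mono_tensor_iff] at h ⊢
  intro x
  obtain ⟨U, hx, g, -, hg⟩ := hI x
  obtain ⟨e₁, he₁⟩ := exists_stalk_generator I ((Groth.Agent.S8914.result I).2 hI) U x hx g hg
  obtain ⟨e₂, he₂⟩ := exists_stalk_generator (I ^ (m + 1))
    ((Groth.Agent.S8914.result _).2 (LefDiv.idealMod_pow hI m).1) U x hx (g ^ (m + 1))
    (by rw [Scheme.IdealSheafData.ideal_pow, Pi.pow_apply, hg, Ideal.span_singleton_pow])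
  have h1 := (rTensor_injective_iff e₁ _).1 (h x)
  rw [he₁] at h1
  rw [rTensor_injective_iff e₂, he₂, map_pow]
  exact h1.pow (m + 1)

theorem preservesColimits_tensor_flip (F : X.Modules) :
    PreservesColimitsOfSize.{u, u} (DCoh.tensorBi.flip.obj F) :=
  (ModSiteTensor.preservesColimits_tensorBi_flip_obj X.sheaf F :)

theorem additive_tensor_flip (F : X.Modules) : (DCoh.tensorBi.flip.obj F).Additive :=
  haveI := preservesColimits_tensor_flip F
  haveI : PreservesColimitsOfSize.{0, 0} (DCoh.tensorBi.flip.obj F) := preservesColimitsOfSize_shrink _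
  Functor.additive_of_preserves_binary_products _

/-- The ideal sequence tensored with `F`. -/
abbrev tensorSeq (J : X.IdealSheafData) (F : X.Modules) : ShortComplex X.Modules :=
  ShortComplex.mk ((DCoh.tensorBi.map (ClSub.idealModι J)).app F) ((DCoh.tensorBi.map (ClSub.toSubscheme J)).app F)
    (by
      rw [← NatTrans.comp_app, ← Functor.map_comp, show ClSub.idealModι J ≫ ClSub.toSubscheme J = 0 from
        kernel.condition _]
      haveI := additive_tensor_flip F
      exact (DCoh.tensorBi.flip.obj F).map_zero _ _)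

theorem tensorSeq_shortExact (J : X.IdealSheafData) (F : X.Modules)
    (h : Mono ((DCoh.tensorBi.map (ClSub.idealModι J)).app F)) : (tensorSeq J F).ShortExact := by
  haveI := preservesColimits_tensor_flip F
  haveI : PreservesColimitsOfSize.{0, 0} (DCoh.tensorBi.flip.obj F) :=
    preservesColimitsOfSize_shrink _
  haveI := additive_tensor_flip F
  have hS := CurveRR.ideal_shortExact J
  haveI := hS.epi_g
  haveI : PreservesFiniteColimits (DCoh.tensorBi.flip.obj F) := inferInstance
  have htf : PreservesFiniteColimits (DCoh.tensorBi.flip.obj F) →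
      ∀ T : ShortComplex X.Modules, T.ShortExact →
        (T.map (DCoh.tensorBi.flip.obj F)).Exact ∧ Epi ((DCoh.tensorBi.flip.obj F).map T.g) :=
    ((Functor.preservesFiniteColimits_tfae (DCoh.tensorBi.flip.obj F)).out 3 0).1
  obtain ⟨hE, hepi⟩ := htf ‹_› _ hS
  exact { exact := hE, mono_f := h, epi_g := hepi }

variable (A : Type u) [CommRing A] [IsNoetherianRing A] [X.Over (Spec (CommRingCat.of A))]
  [IsProper (X ↘ Spec (CommRingCat.of A))]

include A in
/-- The fibre hypotheses for the structure sheaf. -/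
theorem structure_hyp [Flat (X ↘ Spec (CommRingCat.of A))] (d : ℕ)
    (hdepth : ∀ x : X, IsClosed ({(X ↘ Spec (CommRingCat.of A)).asFiber x} :
        Set ↥((X ↘ Spec (CommRingCat.of A)).fiber ((X ↘ Spec (CommRingCat.of A)) x))) →
      (d : ℕ∞) ≤ LocCoh.depth (CInt.fiberStalk (X ↘ Spec (CommRingCat.of A)) x)
        (CInt.fiberStalk (X ↘ Spec (CommRingCat.of A)) x)) :
    FlatMod.IsFlatOver (X ↘ Spec (CommRingCat.of A)) (Coh.structureModule X) ∧
    ∀ x : X, IsClosed ({(X ↘ Spec (CommRingCat.of A)).asFiber x} :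
        Set ↥((X ↘ Spec (CommRingCat.of A)).fiber ((X ↘ Spec (CommRingCat.of A)) x))) →
      (d : ℕ∞) ≤ LocCoh.depth (((X ↘ Spec (CommRingCat.of A)).fiber ((X ↘ Spec (CommRingCat.of A)) x)).presheaf.stalk
          ((X ↘ Spec (CommRingCat.of A)).asFiber x))
        ((CohIII.fiberMod (X ↘ Spec (CommRingCat.of A)) (Coh.structureModule X)
          ((X ↘ Spec (CommRingCat.of A)) x)).presheaf.stalk ((X ↘ Spec (CommRingCat.of A)).asFiber x)) := by
  let f := X ↘ Spec (CommRingCat.of A)
  refine ⟨fun x => ?_, fun x hx => (hdepth x hx).trans_eq ?_⟩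
  · letI := FlatMod.moduleStalkOver f (Coh.structureModule X) x
    letI : Algebra ((Spec (CommRingCat.of A)).presheaf.stalk (f x)) (X.presheaf.stalk x) :=
      (f.stalkMap x).hom.toAlgebra
    haveI : Module.Flat ((Spec (CommRingCat.of A)).presheaf.stalk (f x)) (X.presheaf.stalk x) := Flat.stalkMap f x
    let e' : X.presheaf.stalk x ≃ₗ[(Spec (CommRingCat.of A)).presheaf.stalk (f x)]
        (Coh.structureModule X).presheaf.stalk x :=
      { (CompInt.sE x).toAddEquiv with map_smul' := fun a v => (CompInt.sE x).map_smul ((f.stalkMap x).hom a) v }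
    exact Module.Flat.of_linearEquiv e'.symm
  · exact LocH.idealDepth_congr ((CompInt.sE (f.asFiber x)).trans
      (((DerSch.stalkFunctor _ (f.asFiber x)).mapIso (DerPerf.pullUnitIso (f.fiberι (f x))).symm).toLinearEquiv)) _

include A in
/-- High powers of an ample ideal tensored with `E` have no cohomology below the depth of the fibres. -/
theorem exists_bound {I : X.IdealSheafData} {L : X.Modules} (hL : ClSub.IsInverseOf L (ClSub.idealMod I))
    (hamp : CohB1.IsAmple L) (E : X.Modules) (hE : Coh.IsCoh E)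
    (hflat : FlatMod.IsFlatOver (X ↘ Spec (CommRingCat.of A)) E) (d : ℕ)
    (hdepth : ∀ x : X, IsClosed ({(X ↘ Spec (CommRingCat.of A)).asFiber x} :
        Set ↥((X ↘ Spec (CommRingCat.of A)).fiber ((X ↘ Spec (CommRingCat.of A)) x))) →
      (d : ℕ∞) ≤ LocCoh.depth (((X ↘ Spec (CommRingCat.of A)).fiber ((X ↘ Spec (CommRingCat.of A)) x)).presheaf.stalk
          ((X ↘ Spec (CommRingCat.of A)).asFiber x))
        ((CohIII.fiberMod (X ↘ Spec (CommRingCat.of A)) E ((X ↘ Spec (CommRingCat.of A)) x)).presheaf.stalk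
          ((X ↘ Spec (CommRingCat.of A)).asFiber x))) :
    BlowUp.IsEffCartierIdeal I ∧ ∃ m₀ : ℕ, ∀ m : ℕ, m₀ ≤ m → ∀ j, j < d →
      Subsingleton (Coh.HH X ((DCoh.tensorBi.obj (ClSub.idealMod (I ^ (m + 1)))).obj E) j) := by
  obtain ⟨e⟩ := hL
  have e' : CohB1.tensorMod (ClSub.idealMod I) L ≅ Coh.structureModule X := TMul.commIso _ _ ≪≫ e
  have hi : PicF.IsInvertible (ClSub.idealMod I) := Groth.Agent.S2122.result _ _ e'
  have hC := (Groth.Agent.S8914.result I).1 hi
  obtain ⟨m₀, hm₀⟩ := exists_vanishing A E hE hflat d hdepth hamp hi ⟨e'⟩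
  refine ⟨hC, m₀, fun m hm j hj => ?_⟩
  obtain ⟨φ⟩ := iso_of_cl (A := CohB1.tensorPow (ClSub.idealMod I) (m + 1)) (B := ClSub.idealMod (I ^ (m + 1)))
    (by rw [cl_pow, (LefDiv.idealMod_pow hC m).2])
  exact CohQC.hh_subsingleton_of_iso ((DCoh.tensorBi.obj E).mapIso φ ≪≫ TMul.commIso _ _) j
    (hm₀ (m + 1) (by omega) j hj)

end Groth.Agent.LefRel
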