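import Groth.Agent.LefRel.Pd
import Groth.Agent.LefRel.Embed
import Groth.Agent.SerrePn.ClosedTwist
import Groth.Agent.LefDiv.Vanish
import Groth.Agent.CurveRR.Multi2
import Groth.Agent.KFlat.SchemeStalk

/-!
# Relative vanishing of high negative ample powers
-/

set_option autoImplicit false
set_option linter.style.haveILetI false
set_option linter.unusedSectionVars false
set_option backward.isDefEq.respectTransparency false
set_option backward.isDefEq.respectTransparency.types false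

universe u

open CategoryTheory CategoryTheory.Limits AlgebraicGeometry Opposite
open Groth.Agent.Nakai (cl_tensor cl_pow cl_one iso_of_cl)
open scoped TensorProduct MonoidalCategory

noncomputable section

namespace Groth.Agent.LefRel

attribute [local instance] Groth.Agent.Nakai.clMonoid

/-- Tensoring with an invertible module does not change stalks. -/
theorem nonempty_stalk_tensor_equiv {X : Scheme.{u}} (E : X.Modules) {M : X.Modules} (hM : PicF.IsInvertible M)
    (x : X) : Nonempty (E.presheaf.stalk x ≃ₗ[X.presheaf.stalk x] (CohB1.tensorMod E M).presheaf.stalk x) := by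
  obtain ⟨ε⟩ := CurveRR.Multi.nonempty_stalk_equiv hM x
  exact ⟨((TensorProduct.rid (X.presheaf.stalk x) (E.presheaf.stalk x)).symm.trans
    (TensorProduct.congr (LinearEquiv.refl _ _) ε)).trans (KFlat.stTensorIso E M x).toLinearEquiv⟩

theorem isFlatOver_tensor {X S : Scheme.{u}} (f : X ⟶ S) {E M : X.Modules} (hM : PicF.IsInvertible M)
    (h : FlatMod.IsFlatOver f E) : FlatMod.IsFlatOver f (CohB1.tensorMod E M) := fun x => by
  obtain ⟨e⟩ := nonempty_stalk_tensor_equiv E hM x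
  letI := FlatMod.moduleStalkOver f E x
  letI := FlatMod.moduleStalkOver f (CohB1.tensorMod E M) x
  haveI : Module.Flat (S.presheaf.stalk (f x)) (E.presheaf.stalk x) := h x
  let e' : E.presheaf.stalk x ≃ₗ[S.presheaf.stalk (f x)] (CohB1.tensorMod E M).presheaf.stalk x :=
    { e.toAddEquiv with map_smul' := fun a v => e.map_smul ((f.stalkMap x).hom a) v }
  exact Module.Flat.of_linearEquiv e'.symm

theorem depth_fibre_tensor {X S : Scheme.{u}} (f : X ⟶ S) (E : X.Modules) {M : X.Modules}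
    (hM : PicF.IsInvertible M) (s : S) (z : ↥(f.fiber s)) :
    LocCoh.depth ((f.fiber s).presheaf.stalk z) ((CohIII.fiberMod f (CohB1.tensorMod E M) s).presheaf.stalk z) =
      LocCoh.depth ((f.fiber s).presheaf.stalk z) ((CohIII.fiberMod f E s).presheaf.stalk z) := by
  obtain ⟨e⟩ := nonempty_stalk_tensor_equiv E hM (f.fiberι s z)
  letI : Algebra (X.presheaf.stalk (f.fiberι s z)) ((f.fiber s).presheaf.stalk z) :=
    ((f.fiberι s).stalkMap z).hom.toAlgebra
  let e1 : (CohIII.fiberMod f (CohB1.tensorMod E M) s).presheaf.stalk z ≃ₗ[(f.fiber s).presheaf.stalk z]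
      (f.fiber s).presheaf.stalk z ⊗[X.presheaf.stalk (f.fiberι s z)]
        (CohB1.tensorMod E M).presheaf.stalk (f.fiberι s z) :=
    ((KFlat.pullStalkIso (f.fiberι s) z).app (CohB1.tensorMod E M)).toLinearEquiv
  let e2 : (CohIII.fiberMod f E s).presheaf.stalk z ≃ₗ[(f.fiber s).presheaf.stalk z]
      (f.fiber s).presheaf.stalk z ⊗[X.presheaf.stalk (f.fiberι s z)] E.presheaf.stalk (f.fiberι s z) :=
    ((KFlat.pullStalkIso (f.fiberι s) z).app E).toLinearEquiv
  exact LocH.idealDepth_congr (e1.trans ((LinearEquiv.baseChange _ _ _ _ e.symm).trans e2.symm)) _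

variable (A : Type u) [CommRing A] [IsNoetherianRing A] {X : Scheme.{u}} [X.Over (Spec (CommRingCat.of A))]
  [IsProper (X ↘ Spec (CommRingCat.of A))]

include A in
/-- High negative powers of an ample module have no cohomology below the depth of the fibres. -/
theorem exists_vanishing (E : X.Modules) (hE : Coh.IsCoh E)
    (hflat : FlatMod.IsFlatOver (X ↘ Spec (CommRingCat.of A)) E) (d : ℕ)
    (hdepth : ∀ x : X, IsClosed ({(X ↘ Spec (CommRingCat.of A)).asFiber x} :
        Set ↥((X ↘ Spec (CommRingCat.of A)).fiber ((X ↘ Spec (CommRingCat.of A)) x))) →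
      (d : ℕ∞) ≤ LocCoh.depth (((X ↘ Spec (CommRingCat.of A)).fiber ((X ↘ Spec (CommRingCat.of A)) x)).presheaf.stalk
          ((X ↘ Spec (CommRingCat.of A)).asFiber x))
        ((CohIII.fiberMod (X ↘ Spec (CommRingCat.of A)) E ((X ↘ Spec (CommRingCat.of A)) x)).presheaf.stalk
          ((X ↘ Spec (CommRingCat.of A)).asFiber x)))
    {L Linv : X.Modules} (hL : CohB1.IsAmple L) (hi : PicF.IsInvertible Linv) (hinv : ClSub.IsInverseOf Linv L) :
    ∃ m₀ : ℕ, ∀ m, m₀ ≤ m → ∀ j, j < d →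
      Subsingleton (Coh.HH X (CohB1.tensorMod E (CohB1.tensorPow Linv m)) j) := by
  haveI : IsLocallyNoetherian X := LocallyOfFiniteType.isLocallyNoetherian (X ↘ Spec (CommRingCat.of A))
  obtain ⟨N, e, r, hN, he, hr, hrc, ⟨τ⟩⟩ := exists_closedImmersion (X ↘ Spec (CommRingCat.of A)) hL d
  haveI := hrc
  haveI := CohFinite.isNoetherian_projSpace N A
  letI : (CohB1.ProjSpace N A).Over (Spec (CommRingCat.of A)) := ⟨CohB1.ProjSpace.toSpec N A⟩
  have hpow : ∀ s : ℕ, PicF.IsInvertible (CohB1.tensorPow Linv s) := fun s => FrobSplit.isInvertible_tensorPow hi s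
  have hvan : ∀ s : Fin e, ∀ j : Fin d, ∃ m₀ : ℕ, ∀ m : ℕ, m₀ ≤ m → Subsingleton (Coh.HH (CohB1.ProjSpace N A)
      (CohB1.tensorMod ((Scheme.Modules.pushforward r).obj (CohB1.tensorMod E (CohB1.tensorPow Linv s)))
        (O N A (-(m : ℤ)))) j) := fun s j => by
    refine exists_vanish_pdLE N A (N - d) _ (SerrePn.isCoh_push r (CohFinite.isCoh_tensor hE (hpow s))) ?_ j
      (by have := j.2; omega)
    refine pdLE_push N A (X ↘ Spec (CommRingCat.of A)) r hr _ (CohFinite.isCoh_tensor hE (hpow s))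
      (isFlatOver_tensor _ (hpow s) hflat) (d := d) (by omega) fun x hx => ?_
    rw [depth_fibre_tensor _ _ (hpow s)]
    exact hdepth x hx
  choose q₀ hq₀ using hvan
  refine ⟨e * (∑ p : Fin e × Fin d, q₀ p.1 p.2 + 1), fun m hm j hj => ?_⟩
  let s : Fin e := ⟨m % e, Nat.mod_lt _ he⟩
  have hq : q₀ s ⟨j, hj⟩ ≤ m / e := by
    refine (Finset.single_le_sum (f := fun p : Fin e × Fin d => q₀ p.1 p.2) (fun i _ => Nat.zero_le _)
      (Finset.mem_univ (s, (⟨j, hj⟩ : Fin d)))).trans ?_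
    rw [Nat.le_div_iff_mul_le he]
    nlinarith
  have h := hq₀ s ⟨j, hj⟩ _ hq
  haveI := (CohFinite.isCoh_tensor hE (hpow s)).1
  obtain ⟨ε⟩ := SerrePn.nonempty_hh_pushTwist A r hr (CohB1.tensorMod E (CohB1.tensorPow Linv s))
    (CohFinite.isInvertible_twist N A (-((m / e : ℕ) : ℤ))) j
  haveI := h
  have h' : Subsingleton (Coh.HH X (CohB1.tensorMod (CohB1.tensorMod E (CohB1.tensorPow Linv s))
      ((Scheme.Modules.pullback r).obj (O N A (-((m / e : ℕ) : ℤ))))) j) := ε.toEquiv.subsingleton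
  let c : ℤ → _ := fun a => PicF.cl ((Scheme.Modules.pullback r).obj (O N A a))
  have hc : ∀ a b : ℤ, c a * c b = c (a + b) := fun a b => by
    obtain ⟨θ⟩ := exists_theta N A a b _ rfl
    obtain ⟨π⟩ := TMul.nonempty_pullTensorIso r (O N A a) (O N A b)
    rw [← cl_tensor]
    exact (PicGrp.cl_eq_cl_iff _ _).2 ⟨π ≪≫ (Scheme.Modules.pullback r).mapIso θ⟩
  have hc0 : c 0 = 1 := by
    obtain ⟨θ⟩ := GrT.nonempty_twist_zero_iso (𝒜 := CohB1.polyGrading N A)
    rw [← cl_one]
    exact (PicGrp.cl_eq_cl_iff _ _).2 ⟨(Scheme.Modules.pullback r).mapIso θ ≪≫ DerPerf.pullUnitIso r⟩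
  have hc1 : c 1 = PicF.cl L ^ e := by
    rw [← cl_pow]; exact (PicGrp.cl_eq_cl_iff _ _).2 ⟨τ⟩
  have hcq : ∀ q : ℕ, c q = PicF.cl L ^ (e * q) := by
    intro q
    induction q with
    | zero => simpa using hc0
    | succ q ih => rw [Nat.cast_succ, ← hc, ih, hc1, ← pow_add]; rfl
  have h1 : PicF.cl Linv * PicF.cl L = 1 := by
    rw [← cl_tensor, ← cl_one]
    exact (PicGrp.cl_eq_cl_iff _ _).2 hinv
  have h3 : c ((m / e : ℕ) : ℤ) * c (-((m / e : ℕ) : ℤ)) = 1 := by rw [hc, add_neg_cancel, hc0]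
  have h4 : PicF.cl (CohB1.tensorMod (CohB1.tensorPow Linv s)
      ((Scheme.Modules.pullback r).obj (O N A (-((m / e : ℕ) : ℤ))))) = PicF.cl (CohB1.tensorPow Linv m) := by
    rw [hcq] at h3
    have h5 : PicF.cl Linv ^ (e * (m / e)) * PicF.cl L ^ (e * (m / e)) = 1 := by
      rw [← mul_pow, h1, one_pow]
    rw [cl_tensor, cl_pow, cl_pow]
    show PicF.cl Linv ^ (m % e) * c (-((m / e : ℕ) : ℤ)) = _
    rw [← left_inv_eq_right_inv h5 h3, ← pow_add, Nat.mod_add_div]
  obtain ⟨φ⟩ := iso_of_cl h4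
  exact CohQC.hh_subsingleton_of_iso (TMul.assocIso _ _ _ ≪≫ (DCoh.tensorBi.obj E).mapIso φ) j h'

end Groth.Agent.LefRel
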