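import Groth.Agent.CohFinite.Serre
import Groth.Agent.CohFinite.AmpleFinite
import Groth.Agent.SerrePn.Twists
import Groth.Agent.SerrePn.SheafHomExt
import Groth.Agent.ExtShX.RelTensor
import Groth.Agent.PnReg.VanishFree
import Groth.Agent.Higgs.Secant
import Groth.Agent.RegDual.Scheme
import Groth.Agent.SerreReg.Basic
import Groth.Agent.Intersect.ProjSpace
import Groth.Agent.K0Coh.Basic
import Groth.Agent.RelGen.LocFreeLocal

/-!
# Vanishing of negative twists on projective space over a ring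
-/

set_option autoImplicit false
set_option linter.style.haveILetI false
set_option linter.unusedSectionVars false
set_option backward.isDefEq.respectTransparency false
set_option backward.isDefEq.respectTransparency.types false

universe u

open CategoryTheory CategoryTheory.Limits AlgebraicGeometry Opposite Abelian

noncomputable section

namespace Groth.Agent.LefRel

attribute [local instance] Abelian.hasFiniteBiproducts

variable (N : ℕ) (A : Type u) [CommRing A] [IsNoetherianRing A]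

local notation "P" => CohB1.ProjSpace N A

/-- The twisting sheaves. -/
abbrev O (a : ℤ) : (CohB1.ProjSpace N A).Modules := Twist.twistProjSpace N A a

theorem exists_theta (a b c : ℤ) (h : a + b = c) :
    Nonempty (CohB1.tensorMod (O N A a) (O N A b) ≅ O N A c) :=
  GrT.nonempty_tensor_iso (CohB1.polyGrading N A) (ProjMor.exists_notMem (ProjMor.genDegOne_projSpace N A)) h

theorem exists_theta_zero (a b : ℤ) (h : a + b = 0) :
    Nonempty (CohB1.tensorMod (O N A a) (O N A b) ≅ Coh.structureModule P) := by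
  obtain ⟨i⟩ := exists_theta N A a b 0 h
  obtain ⟨j⟩ := GrT.nonempty_twist_zero_iso (𝒜 := CohB1.polyGrading N A)
  exact ⟨i ≪≫ j⟩

theorem hom_subsingleton {X : Scheme.{u}} [X.Over (Spec (CommRingCat.of A))] {L L' G : X.Modules}
    (hL' : PicF.IsInvertible L') (θ : CohB1.tensorMod L L' ≅ Coh.structureModule X)
    (h : Subsingleton (Coh.HH X (CohB1.tensorMod G L') 0)) : Subsingleton (L ⟶ G) := by
  obtain ⟨e, -⟩ := CohFinite.exists_zero_equiv A (CohB1.tensorMod G L')
  haveI : Subsingleton Γ(CohB1.tensorMod G L', ⊤) := e.symm.toEquiv.subsingleton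
  refine ⟨fun φ ψ => Higgs.tmap_injective hL' ?_⟩
  rw [← cancel_epi θ.inv]
  exact TMul.hom_ext_val (Subsingleton.elim _ _)

theorem subsingleton_ext_twist [HasExt.{u} (CohB1.ProjSpace N A).Modules] (q : ℕ) (hq : q < N) (M m : ℕ)
    (hm : M < m) : Subsingleton (Ext (O N A (-(M : ℤ))) (O N A (-(m : ℤ))) q) := by
  letI : (CohB1.ProjSpace N A).Over (Spec (CommRingCat.of A)) := ⟨CohB1.ProjSpace.toSpec N A⟩
  have hvan : Subsingleton (Coh.HH P (CohB1.tensorMod (O N A (-(m : ℤ))) (O N A (M : ℤ))) q) := by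
    obtain ⟨e⟩ := exists_theta N A (-(m : ℤ)) (M : ℤ) _ rfl
    exact CohQC.hh_subsingleton_of_iso e.symm q (ProjCech.twist_vanish N _ q (by omega) (by omega))
  obtain ⟨θ⟩ := exists_theta_zero N A (-(M : ℤ)) (M : ℤ) (neg_add_cancel _)
  obtain ⟨θ'⟩ := exists_theta_zero N A (M : ℤ) (-(M : ℤ)) (add_neg_cancel _)
  cases q with
  | zero =>
    haveI := hom_subsingleton A (CohFinite.isInvertible_twist N A (M : ℤ)) θ hvan
    exact Ext.homEquiv₀.subsingleton
  | succ i =>
    exact SerrePn.subsingleton_ext_of_hh A (CohFinite.isInvertible_twist N A _) (CohFinite.isInvertible_twist N A _)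
      θ θ' i _ hvan

theorem exists_cover (G : (CohB1.ProjSpace N A).Modules) (hG : Coh.IsCoh G) :
    ∃ (M l : ℕ) (p : (⨁ fun _ : Fin l => O N A (-(M : ℤ))) ⟶ G), Epi p := by
  haveI := CohFinite.isNoetherian_projSpace N A
  obtain ⟨M, hM⟩ := GrT.exists_epi_twists
    (v := fun i : ProjCech.J.{u} N => (MvPolynomial.X i.down : MvPolynomial (Fin (N + 1)) A))
    (fun i => MvPolynomial.isHomogeneous_X A i.down) hG.1 hG.2 (CohFinite.cov_X N A)
  obtain ⟨l, q, hq⟩ := hM M le_rfl
  exact ⟨M, l, (biproduct.isoCoproduct _).hom ≫ q, epi_comp _ _⟩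

/-- Ext into very negative twists vanishes below the relative dimension. -/
theorem exists_ext_vanish [HasExt.{u} (CohB1.ProjSpace N A).Modules] :
    ∀ (q : ℕ), q < N → ∀ (D : (CohB1.ProjSpace N A).Modules), Coh.IsCoh D →
      ∃ m₀ : ℕ, ∀ m : ℕ, m₀ ≤ m → Subsingleton (Ext D (O N A (-(m : ℤ))) q) := by
  haveI := CohFinite.isNoetherian_projSpace N A
  intro q
  induction q with
  | zero =>
    intro hq D hD
    obtain ⟨M, l, p, hp⟩ := exists_cover N A D hD
    refine ⟨M + 1, fun m hm => ?_⟩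
    haveI := subsingleton_ext_twist N A 0 hq M m hm
    haveI : Subsingleton (O N A (-(M : ℤ)) ⟶ O N A (-(m : ℤ))) := Ext.homEquiv₀.symm.subsingleton
    haveI : Subsingleton (D ⟶ O N A (-(m : ℤ))) :=
      ⟨fun a b => (cancel_epi p).1 (biproduct.hom_ext' _ _ fun j => Subsingleton.elim _ _)⟩
    exact Ext.homEquiv₀.subsingleton
  | succ q ih =>
    intro hq D hD
    obtain ⟨M, l, p, hp⟩ := exists_cover N A D hD
    have hT : Coh.IsCoh (⨁ fun _ : Fin l => O N A (-(M : ℤ))) :=
      Devissage.isCoh_biproduct _ fun _ => CohFinite.isCoh_twist N A _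
    obtain ⟨m₁, hm₁⟩ := ih (by omega) (kernel p) (Groth.Agent.QC.isCoh_kernel hT hD.1 p)
    refine ⟨max m₁ (M + 1), fun m hm => subsingleton_of_forall_eq 0 fun x => ?_⟩
    have hS : (ShortComplex.mk (kernel.ι p) p (kernel.condition p)).ShortExact :=
      { exact := ShortComplex.exact_of_f_is_kernel _ (kernelIsKernel p) }
    haveI := subsingleton_ext_twist N A (q + 1) hq M m (by omega)
    have h0 : ∀ y : Ext (⨁ fun _ : Fin l => O N A (-(M : ℤ))) (O N A (-(m : ℤ))) (q + 1), y = 0 := fun y => by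
      rw [← Ext.mk₀_id_comp y, ← biproduct.total, Ext.mk₀_sum, Ext.sum_comp]
      refine Finset.sum_eq_zero fun j _ => ?_
      rw [← Ext.mk₀_comp_mk₀, Ext.comp_assoc_of_second_deg_zero,
        Subsingleton.elim ((Ext.mk₀ (biproduct.ι _ j)).comp y (zero_add (q + 1))) 0, Ext.comp_zero]
    obtain ⟨x₁, hx₁⟩ := Ext.contravariant_sequence_exact₃ hS (O N A (-(m : ℤ))) x (h0 _) (add_comm 1 q)
    haveI := hm₁ m (le_trans (le_max_left _ _) hm)
    rw [← hx₁, Subsingleton.elim x₁ 0, Ext.comp_zero]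

/-- `H^q(E(-m)) = 0` for locally free `E`, `q < N` and large `m`. -/
theorem exists_vanish_locFree (E : (CohB1.ProjSpace N A).Modules) (hE : FlatMod.IsFinLocFree E) (q : ℕ) (hq : q < N) :
    ∃ m₀ : ℕ, ∀ m : ℕ, m₀ ≤ m → Subsingleton (Coh.HH P (CohB1.tensorMod E (O N A (-(m : ℤ)))) q) := by
  letI : (CohB1.ProjSpace N A).Over (Spec (CommRingCat.of A)) := ⟨CohB1.ProjSpace.toSpec N A⟩
  haveI := SerrePn.enoughInjectives (X := CohB1.ProjSpace N A)
  haveI : HasExt.{u} (CohB1.ProjSpace N A).Modules := hasExt_of_enoughInjectives _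
  have hD := ResDesc.isFinLocFree_dual hE
  obtain ⟨m₀, hm₀⟩ := exists_ext_vanish N A q hq (RefHull.dual E) (K0Coh.isCoh_of_isFinLocFree hD)
  refine ⟨m₀, fun m hm => ?_⟩
  obtain ⟨e⟩ := SerrePn.ext_equiv_hh A _ hD q (O N A (-(m : ℤ)))
  haveI := hm₀ m hm
  exact CohQC.hh_subsingleton_of_iso ((ExtShX.tensHomNat hE).app (O N A (-(m : ℤ)))).symm q e.symm.toEquiv.subsingleton

/-- A step of a resolution by sums of twists, on stalks. -/
theorem pdLE_kernel_iff {l M : ℕ} {G : (CohB1.ProjSpace N A).Modules}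
    (p : (⨁ fun _ : Fin l => O N A (-(M : ℤ))) ⟶ G) [Epi p]
    (hTl : FlatMod.IsFinLocFree (⨁ fun _ : Fin l => O N A (-(M : ℤ)))) (x : P) (r : ℕ) :
    SerreReg.PdLE ((CohB1.ProjSpace N A).presheaf.stalk x) (G.presheaf.stalk x) (r + 1) ↔
      SerreReg.PdLE ((CohB1.ProjSpace N A).presheaf.stalk x) ((kernel p).presheaf.stalk x) r := by
  let T : Fin l → (CohB1.ProjSpace N A).Modules := fun _ => O N A (-(M : ℤ))
  have hS : (ShortComplex.mk (kernel.ι p) p (kernel.condition p)).ShortExact :=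
    { exact := ShortComplex.exact_of_f_is_kernel _ (kernelIsKernel p) }
  have hx := hS.map_of_exact (DerSch.stalkFunctor (CohB1.ProjSpace N A) x)
  have hex := (ShortComplex.ShortExact.moduleCat_exact_iff_function_exact _).1 hx.exact
  have hinj := (ModuleCat.mono_iff_injective _).1 hx.mono_f
  have hsur := (ModuleCat.epi_iff_surjective _).1 hx.epi_g
  haveI : Module.Projective ((CohB1.ProjSpace N A).presheaf.stalk x)
      ((DerSch.stalkFunctor (CohB1.ProjSpace N A) x).obj (⨁ T)) :=
    @Module.Projective.of_free _ _ _ _ _ (LocFree.free_stalk_of_isFinLocFree hTl x :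
      Module.Free ((CohB1.ProjSpace N A).presheaf.stalk x) ((⨁ T).presheaf.stalk x))
  have e := (LinearEquiv.ofInjective _ hinj).trans (LinearEquiv.ofEq _ _ hex.linearMap_ker_eq.symm)
  refine (SerreReg.pdLE_succ_iff (F := (DerSch.stalkFunctor (CohB1.ProjSpace N A) x).obj (⨁ T)) _ hsur r).trans ?_
  exact ⟨SerreReg.pdLE_of_equiv e.symm, SerreReg.pdLE_of_equiv e⟩

theorem isFinLocFree_twists (l M : ℕ) :
    FlatMod.IsFinLocFree (⨁ fun _ : Fin l => O N A (-(M : ℤ))) :=
  RelGen.isFinLocFree_of_iso (biproduct.isoCoproduct _).symm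
    (PnReg.isFinLocFree_sigma _ fun _ => ResDesc.isFinLocFree_of_isInvertible (CohFinite.isInvertible_twist N A _))

/-- `H^i(G(-m)) = 0` for `i + r < N` and large `m` when the stalks of `G` have projective dimension at most `r`. -/
theorem exists_vanish_pdLE : ∀ (r : ℕ) (G : (CohB1.ProjSpace N A).Modules), Coh.IsCoh G →
    (∀ x : P, SerreReg.PdLE ((CohB1.ProjSpace N A).presheaf.stalk x) (G.presheaf.stalk x) r) →
    ∀ i, i + r < N → ∃ m₀ : ℕ, ∀ m : ℕ, m₀ ≤ m →
      Subsingleton (Coh.HH P (CohB1.tensorMod G (O N A (-(m : ℤ)))) i) := by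
  haveI := CohFinite.isNoetherian_projSpace N A
  intro r
  induction r with
  | zero =>
    intro G hG hpd i hi
    refine exists_vanish_locFree N A G (RegDual.isFinLocFree_of_free_stalk hG fun x => ?_) i hi
    haveI := RegDual.finite_stalk hG x
    haveI := (SerreReg.pdLE_zero_iff _).1 (hpd x)
    exact Module.free_of_flat_of_isLocalRing
  | succ r ih =>
    intro G hG hpd i hi
    obtain ⟨M, l, p, hp⟩ := exists_cover N A G hG
    let T : Fin l → (CohB1.ProjSpace N A).Modules := fun _ => O N A (-(M : ℤ))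
    have hT : Coh.IsCoh (⨁ T) := Devissage.isCoh_biproduct _ fun _ => CohFinite.isCoh_twist N A _
    have hTl : FlatMod.IsFinLocFree (⨁ T) := isFinLocFree_twists N A l M
    have hS : (ShortComplex.mk (kernel.ι p) p (kernel.condition p)).ShortExact :=
      { exact := ShortComplex.exact_of_f_is_kernel _ (kernelIsKernel p) }
    have hK : Coh.IsCoh (kernel p) := Groth.Agent.QC.isCoh_kernel hT hG.1 p
    obtain ⟨m₁, hm₁⟩ := ih (kernel p) hK (fun x => (pdLE_kernel_iff N A p hTl x r).1 (hpd x))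
      (i + 1) (by omega)
    refine ⟨max m₁ (M + 1), fun m hm => ?_⟩
    have hinv := CohFinite.isInvertible_twist N A (-(m : ℤ))
    refine CohFinite.subsingleton_of_shortExact (CohFinite.shortExact_tmap hinv hS) i ?_
      (hm₁ m (le_trans (le_max_left _ _) hm))
    refine CohFinite.subsingleton_of_split _ (fun _ : Fin l => CohB1.tensorMod (O N A (-(M : ℤ))) (O N A (-(m : ℤ))))
      (fun j => CohFinite.tmap (biproduct.ι T j) _) (fun j => CohFinite.tmap (biproduct.π T j) _) ?_ i fun j => ?_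
    · simp only [← CohFinite.tmap_comp]
      exact (CohFinite.tmap_sum _ _ _).symm.trans
        ((congrArg (fun ψ => CohFinite.tmap ψ _) biproduct.total).trans (CohFinite.tmap_id _ _))
    · obtain ⟨e⟩ := exists_theta N A (-(M : ℤ)) (-(m : ℤ)) _ rfl
      exact CohQC.hh_subsingleton_of_iso e.symm i (ProjCech.twist_vanish N _ i (by omega) (by omega))

end Groth.Agent.LefRel
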